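import Mathlib

/-! Geometric sums modulo prime powers. -/

set_option autoImplicit false

namespace Cfsg.Agent.Lib.Metacyclic

open Finset

/-- Geometric sum. -/
def gsum (x m : ℕ) : ℕ := ∑ i ∈ range m, x ^ i

theorem gsum_zero (x : ℕ) : gsum x 0 = 0 := rfl

theorem gsum_one (x : ℕ) : gsum x 1 = 1 := by simp [gsum]

theorem gsum_add (x a b : ℕ) : gsum x (a + b) = gsum x a + x ^ a * gsum x b := by
  simp [gsum, sum_range_add, mul_sum, pow_add]

theorem gsum_succ (x m : ℕ) : gsum x (m + 1) = gsum x m + x ^ m := by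
  simp [gsum, sum_range_succ]

theorem gsum_mul (x a b : ℕ) : gsum x (a * b) = gsum x a * gsum (x ^ a) b := by
  induction b with
  | zero => simp [gsum]
  | succ b ih => rw [Nat.mul_succ, gsum_add, ih, gsum_succ, mul_add, pow_mul, mul_comm (gsum x a) ((x ^ a) ^ b)]

theorem pow_eq_one_add (d i : ℕ) : (1 + d) ^ i = 1 + d * gsum (1 + d) i := by
  induction i with
  | zero => simp [gsum]
  | succ i ih =>
    rw [gsum_succ, mul_add, ← Nat.add_assoc, ← ih, pow_succ]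
    ring

variable {p : ℕ} [Fact p.Prime]

theorem gsum_cast_prime (x : ℕ) (hx : (x : ZMod p) = 1) (m : ℕ) : (gsum x m : ZMod p) = m := by
  simp [gsum, hx]

theorem pow_cast_one {x : ℕ} (hx : (x : ZMod p) = 1) (m : ℕ) : ((x ^ m : ℕ) : ZMod p) = 1 := by
  simp [hx]

theorem gsum_prime (hp : p ≠ 2) {x : ℕ} (hx : (x : ZMod p) = 1) :
    ∃ v : ℕ, gsum x p = p * (1 + p * v) := by
  -- modulo p ^ 2
  obtain ⟨t, ht⟩ : ∃ t : ℕ, x = 1 + p * t := by
    rcases Nat.eq_zero_or_pos x with rfl | hx0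
    · exfalso; exact zero_ne_one (α := ZMod p) (by simpa using hx)
    obtain ⟨y, rfl⟩ : ∃ y, x = 1 + y := ⟨x - 1, by omega⟩
    obtain ⟨t, rfl⟩ : p ∣ y := by
      rw [← ZMod.natCast_eq_zero_iff]
      simpa using hx
    exact ⟨t, rfl⟩
  have key : ∀ m : ℕ, ∃ w : ℕ, gsum x m = m + p * t * m.choose 2 + p ^ 2 * w := by
    intro m
    induction m with
    | zero => exact ⟨0, by simp [gsum]⟩
    | succ m ih =>
      obtain ⟨w, hw⟩ := ih
      have hpw : ∀ k : ℕ, ∃ z : ℕ, (1 + p * t) ^ k = 1 + k * (p * t) + p ^ 2 * z := by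
        intro k
        induction k with
        | zero => exact ⟨0, by simp⟩
        | succ k ih =>
          obtain ⟨z, hz⟩ := ih
          exact ⟨z * (1 + p * t) + k * t ^ 2, by rw [pow_succ, hz]; ring⟩
      obtain ⟨z, hz⟩ := hpw m
      refine ⟨w + z, ?_⟩
      rw [gsum_succ, hw, ht, hz, show (m + 1).choose 2 = m.choose 1 + m.choose 2 from rfl, Nat.choose_one_right]
      ring
  obtain ⟨w, hw⟩ := key p
  obtain ⟨c, hc⟩ : p ∣ p.choose 2 := (Fact.out : p.Prime).dvd_choose_self two_ne_zero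
    (by have := (Fact.out : p.Prime).two_le; omega)
  exact ⟨t * c + w, by rw [hw, hc]; ring⟩

theorem gsum_prime_pow (hp : p ≠ 2) {x : ℕ} (hx : (x : ZMod p) = 1) :
    ∀ (s m : ℕ), ¬ p ∣ m → ∃ u : ℕ, ¬ p ∣ u ∧ gsum x (p ^ s * m) = p ^ s * u := by
  intro s
  induction s generalizing x with
  | zero =>
    intro m hm
    refine ⟨gsum x m, ?_, by simp⟩
    rw [← ZMod.natCast_eq_zero_iff, gsum_cast_prime x hx, ZMod.natCast_eq_zero_iff]
    exact hm
  | succ s ih =>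
    intro m hm
    obtain ⟨u, hu, he⟩ := ih (pow_cast_one hx p) m hm
    obtain ⟨v, hv⟩ := gsum_prime hp hx
    refine ⟨(1 + p * v) * u, ?_, ?_⟩
    · rw [(Fact.out : p.Prime).dvd_mul, not_or]
      refine ⟨?_, hu⟩
      rw [Nat.dvd_add_left (dvd_mul_right p v)]
      exact (Fact.out : p.Prime).not_dvd_one
    · rw [show p ^ (s + 1) * m = p * (p ^ s * m) by ring, gsum_mul, he, hv]
      ring

/-- The valuation of a geometric sum. -/
theorem dvd_gsum_iff (hp : p ≠ 2) {x : ℕ} (hx : (x : ZMod p) = 1) (s m : ℕ) :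
    p ^ s ∣ gsum x m ↔ p ^ s ∣ m := by
  rcases Nat.eq_zero_or_pos m with rfl | hm
  · simp [gsum]
  obtain ⟨v, m', hm', rfl⟩ := Nat.exists_eq_pow_mul_and_not_dvd hm.ne' p (Fact.out : p.Prime).ne_one
  obtain ⟨u, hu, he⟩ := gsum_prime_pow hp hx v m' hm'
  rw [he]
  have hc : ∀ w : ℕ, ¬ p ∣ w → (p ^ s ∣ p ^ v * w ↔ s ≤ v) := fun w hw => by
    refine ⟨fun h => ?_, fun h => (pow_dvd_pow p h).mul_right w⟩
    have h1 : p ^ s ∣ p ^ v := (Nat.Coprime.pow_left s ((Fact.out : p.Prime).coprime_iff_not_dvd.mpr hw)).dvd_of_dvd_mul_right h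
    exact (Nat.pow_dvd_pow_iff_le_right (Fact.out : p.Prime).one_lt).mp h1
  rw [hc u hu, hc m' hm']

theorem gsum_eq_iff (hp : p ≠ 2) {x : ℕ} (hx : (x : ZMod p) = 1) {n a b : ℕ} :
    (gsum x a : ZMod (p ^ n)) = gsum x b ↔ (a : ZMod (p ^ n)) = b := by
  rcases le_total a b with h | h <;> obtain ⟨c, rfl⟩ := Nat.exists_eq_add_of_le h
  · rw [gsum_add]
    have hu : IsUnit ((x ^ a : ℕ) : ZMod (p ^ n)) := by
      rw [ZMod.isUnit_iff_coprime]
      refine Nat.Coprime.pow_right _ ((Fact.out : p.Prime).coprime_iff_not_dvd.mpr ?_).symm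
      rw [← ZMod.natCast_eq_zero_iff, pow_cast_one hx]
      exact one_ne_zero
    push_cast at hu ⊢
    rw [left_eq_add, hu.mul_right_eq_zero, left_eq_add, ZMod.natCast_eq_zero_iff, ZMod.natCast_eq_zero_iff,
      dvd_gsum_iff hp hx]
  · rw [gsum_add]
    have hu : IsUnit ((x ^ b : ℕ) : ZMod (p ^ n)) := by
      rw [ZMod.isUnit_iff_coprime]
      refine Nat.Coprime.pow_right _ ((Fact.out : p.Prime).coprime_iff_not_dvd.mpr ?_).symm
      rw [← ZMod.natCast_eq_zero_iff, pow_cast_one hx]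
      exact one_ne_zero
    push_cast at hu ⊢
    rw [add_eq_left, hu.mul_right_eq_zero, add_eq_left, ZMod.natCast_eq_zero_iff, ZMod.natCast_eq_zero_iff,
      dvd_gsum_iff hp hx]

theorem gsum_surjective (hp : p ≠ 2) {x : ℕ} (hx : (x : ZMod p) = 1) (n : ℕ) (z : ZMod (p ^ n)) :
    ∃ m : ℕ, (gsum x m : ZMod (p ^ n)) = z := by
  haveI : NeZero (p ^ n) := ⟨pow_ne_zero _ (Fact.out : p.Prime).ne_zero⟩
  obtain ⟨y, hy⟩ := (Finite.injective_iff_surjective (f := fun a : ZMod (p ^ n) => (gsum x a.val : ZMod (p ^ n)))).mp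
    (fun a b h => by
      have := (gsum_eq_iff hp hx).mp h
      simpa using this) z
  exact ⟨y.val, hy⟩

end Cfsg.Agent.Lib.Metacyclic
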