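import Mathlib

/-! The symplectic plane over `ℤ / p ^ n`. -/

set_option autoImplicit false

namespace Cfsg.Agent.Lib.Metacyclic

variable {p n : ℕ} [Fact p.Prime]

/-- The plane. -/
abbrev Plane (p n : ℕ) := ZMod (p ^ n) × ZMod (p ^ n)

/-- The alternating form. -/
def det {R : Type*} [CommRing R] (v w : R × R) : R := v.1 * w.2 - v.2 * w.1

theorem neZero_pow (p n : ℕ) [Fact p.Prime] : NeZero (p ^ n) :=
  ⟨pow_ne_zero _ (Fact.out : p.Prime).ne_zero⟩

/-- Multiples of `p ^ s`. -/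
def mults (p n s : ℕ) : AddSubgroup (ZMod (p ^ n)) := AddSubgroup.zmultiples ((p ^ s : ℕ) : ZMod (p ^ n))

theorem mem_mults {s : ℕ} {x : ZMod (p ^ n)} : x ∈ mults p n s ↔ ∃ z, x = (p : ZMod (p ^ n)) ^ s * z := by
  have := neZero_pow p n
  rw [mults, AddSubgroup.mem_zmultiples_iff]
  constructor
  · rintro ⟨k, rfl⟩; exact ⟨k, by simp [mul_comm]⟩
  · rintro ⟨z, rfl⟩
    exact ⟨(z.val : ℤ), by simp [mul_comm]⟩

theorem card_mults {s : ℕ} (hs : s ≤ n) : Nat.card (mults p n s) = p ^ (n - s) := by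
  have := neZero_pow p n
  rw [mults, Nat.card_zmultiples, ZMod.addOrderOf_coe _ (pow_ne_zero _ (Fact.out : p.Prime).ne_zero),
    Nat.gcd_eq_right (pow_dvd_pow p hs), Nat.pow_div hs (Fact.out : p.Prime).pos]

theorem mults_eq_bot : mults p n n = ⊥ := by
  rw [mults, ZMod.natCast_self, AddSubgroup.zmultiples_zero_eq_bot]

theorem pow_eq_zero' {m : ℕ} (h : n ≤ m) : (p : ZMod (p ^ n)) ^ m = 0 := by
  rw [← Nat.cast_pow, ZMod.natCast_eq_zero_iff]
  exact pow_dvd_pow p h

theorem mults_anti {s t : ℕ} (h : s ≤ t) : mults p n t ≤ mults p n s := by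
  intro x hx
  obtain ⟨z, rfl⟩ := mem_mults.mp hx
  obtain ⟨d, rfl⟩ := Nat.exists_eq_add_of_le h
  exact mem_mults.mpr ⟨(p : ZMod (p ^ n)) ^ d * z, by rw [pow_add, mul_assoc]⟩

theorem isUnit_natCast {m : ℕ} (h : ¬ p ∣ m) : IsUnit (m : ZMod (p ^ n)) :=
  (ZMod.isUnit_iff_coprime m (p ^ n)).mpr
    (Nat.Coprime.pow_right _ ((Fact.out : p.Prime).coprime_iff_not_dvd.mpr h).symm)

/-- Every element is a power of `p` times a unit, or zero. -/
theorem exists_decomp (x : ZMod (p ^ n)) : ∃ v ≤ n, ∃ u : (ZMod (p ^ n))ˣ, x = (p : ZMod (p ^ n)) ^ v * u := by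
  have := neZero_pow p n
  by_cases hx : x = 0
  · exact ⟨n, le_rfl, 1, by rw [pow_eq_zero' le_rfl, zero_mul, hx]⟩
  have hv : x.val ≠ 0 := fun h => hx ((ZMod.val_eq_zero x).mp h)
  obtain ⟨v, m, hm, he⟩ := Nat.exists_eq_pow_mul_and_not_dvd hv p (Fact.out : p.Prime).ne_one
  refine ⟨v, ?_, (isUnit_natCast (n := n) hm).unit, ?_⟩
  · by_contra hlt
    refine hx ?_
    rw [← ZMod.natCast_zmod_val x, he, Nat.cast_mul, Nat.cast_pow, pow_eq_zero' (not_le.mp hlt).le, zero_mul]
  · rw [IsUnit.unit_spec, ← Nat.cast_pow, ← Nat.cast_mul, ← he, ZMod.natCast_zmod_val]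

theorem mul_mem_of_mem {A : AddSubgroup (ZMod (p ^ n))} {x : ZMod (p ^ n)} (hx : x ∈ A)
    (c : ZMod (p ^ n)) : c * x ∈ A := by
  have := neZero_pow p n
  have h := AddSubgroup.nsmul_mem A hx c.val
  rwa [nsmul_eq_mul, ZMod.natCast_zmod_val] at h

/-- Subgroups of `ℤ / p ^ n`. -/
theorem exists_eq_mults (A : AddSubgroup (ZMod (p ^ n))) : ∃ t ≤ n, A = mults p n t := by
  classical
  have hex : ∃ t, (p : ZMod (p ^ n)) ^ t ∈ A := ⟨n, by rw [pow_eq_zero' le_rfl]; exact zero_mem A⟩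
  refine ⟨Nat.find hex, Nat.find_min' hex (by rw [pow_eq_zero' le_rfl]; exact zero_mem A), le_antisymm ?_ ?_⟩
  · intro x hx
    obtain ⟨v, -, u, rfl⟩ := exists_decomp x
    have h : (p : ZMod (p ^ n)) ^ v ∈ A := by
      have := mul_mem_of_mem hx ((u⁻¹ : (ZMod (p ^ n))ˣ) : ZMod (p ^ n))
      rwa [mul_comm, mul_assoc, Units.mul_inv, mul_one] at this
    exact mults_anti (Nat.find_min' hex h) (mem_mults.mpr ⟨u, rfl⟩)
  · intro x hx
    obtain ⟨z, rfl⟩ := mem_mults.mp hx
    rw [mul_comm]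
    exact mul_mem_of_mem (Nat.find_spec hex) z

theorem mul_pow_eq_zero_iff {t : ℕ} (ht : t ≤ n) {x : ZMod (p ^ n)} :
    x * (p : ZMod (p ^ n)) ^ t = 0 ↔ x ∈ mults p n (n - t) := by
  have := neZero_pow p n
  constructor
  · intro h
    obtain ⟨v, hv, u, rfl⟩ := exists_decomp x
    have h' : (p : ZMod (p ^ n)) ^ (v + t) = 0 := by
      rw [pow_add, ← Units.mul_left_eq_zero u, ← h]; ring
    rw [← Nat.cast_pow, ZMod.natCast_eq_zero_iff, Nat.pow_dvd_pow_iff_le_right (Fact.out : p.Prime).one_lt] at h'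
    exact mults_anti (show n - t ≤ v by omega) (mem_mults.mpr ⟨u, rfl⟩)
  · intro h
    obtain ⟨z, rfl⟩ := mem_mults.mp h
    rw [mul_right_comm, ← pow_add, pow_eq_zero' (by omega), zero_mul]

/-- The orthogonal of a subgroup of the plane. -/
def perp (M : AddSubgroup (Plane p n)) : AddSubgroup (Plane p n) where
  carrier := {w | ∀ v ∈ M, det v w = 0}
  zero_mem' := by intro v _; simp [det]
  add_mem' := by
    intro a b ha hb v hv
    have h1 := ha v hv
    have h2 := hb v hv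
    simp only [det, Prod.fst_add, Prod.snd_add] at *
    linear_combination h1 + h2
  neg_mem' := by
    intro a ha v hv
    have h1 := ha v hv
    simp only [det, Prod.fst_neg, Prod.snd_neg] at *
    linear_combination -h1

theorem mem_perp {M : AddSubgroup (Plane p n)} {w : Plane p n} : w ∈ perp M ↔ ∀ v ∈ M, det v w = 0 := Iff.rfl

theorem det_swap {R : Type*} [CommRing R] (v w : R × R) : det v w = - det w v := by
  simp only [det]; ring

theorem det_self {R : Type*} [CommRing R] (v : R × R) : det v v = 0 := by simp only [det]; ring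

theorem le_perp_perp (M : AddSubgroup (Plane p n)) : M ≤ perp (perp M) := fun v hv w hw => by
  rw [det_swap, hw v hv, neg_zero]

/-- Triangular form of a subgroup of the plane. -/
structure Shape (M : AddSubgroup (Plane p n)) (s t : ℕ) (j : ZMod (p ^ n)) : Prop where
  hs : s ≤ n
  ht : t ≤ n
  gen : ((p : ZMod (p ^ n)) ^ s, j) ∈ M
  vert : ∀ y, ((0 : ZMod (p ^ n)), y) ∈ M ↔ y ∈ mults p n t
  proj : ∀ v ∈ M, v.1 ∈ mults p n s
  link : (p : ZMod (p ^ n)) ^ (n - s) * j ∈ mults p n t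

theorem smul_mem_plane {M : AddSubgroup (Plane p n)} {v : Plane p n} (hv : v ∈ M)
    (c : ZMod (p ^ n)) : c • v ∈ M := by
  have := neZero_pow p n
  have h := AddSubgroup.nsmul_mem M hv c.val
  have e : c.val • v = c • v := by
    rw [← ZMod.natCast_zmod_val c, ZMod.natCast_zmod_val c]
    ext <;> simp [ZMod.natCast_zmod_val]
  rwa [e] at h

theorem exists_shape (M : AddSubgroup (Plane p n)) : ∃ s t j, Shape M s t j := by
  obtain ⟨t, ht, hT⟩ := exists_eq_mults (M.comap (AddMonoidHom.inr (ZMod (p ^ n)) (ZMod (p ^ n))))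
  obtain ⟨s, hs, hS⟩ := exists_eq_mults (M.map (AddMonoidHom.fst (ZMod (p ^ n)) (ZMod (p ^ n))))
  obtain ⟨⟨x, j⟩, hg, hx⟩ : (p : ZMod (p ^ n)) ^ s ∈ M.map (AddMonoidHom.fst (ZMod (p ^ n)) (ZMod (p ^ n))) := by
    rw [hS]; exact mem_mults.mpr ⟨1, (mul_one _).symm⟩
  have hgen : ((p : ZMod (p ^ n)) ^ s, j) ∈ M := by
    have : x = (p : ZMod (p ^ n)) ^ s := hx
    rwa [← this]
  refine ⟨s, t, j, hs, ht, hgen, fun y => ?_, fun v hv => hS ▸ ⟨v, hv, rfl⟩, ?_⟩
  · rw [← hT]; rfl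
  · have := smul_mem_plane hgen ((p : ZMod (p ^ n)) ^ (n - s))
    rw [Prod.smul_mk, smul_eq_mul, smul_eq_mul, ← pow_add, pow_eq_zero' (by omega)] at this
    rw [← hT]; exact this

variable {M : AddSubgroup (Plane p n)} {s t : ℕ} {j : ZMod (p ^ n)}

/-- The order of a subgroup from its projection and vertical part. -/
theorem card_eq_of_parts (N : AddSubgroup (Plane p n)) {a b : ℕ} (ha : a ≤ n) (hb : b ≤ n)
    (hproj : N.map (AddMonoidHom.fst (ZMod (p ^ n)) (ZMod (p ^ n))) = mults p n a)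
    (hvert : ∀ y, ((0 : ZMod (p ^ n)), y) ∈ N ↔ y ∈ mults p n b) :
    Nat.card N = p ^ (n - a) * p ^ (n - b) := by
  have := neZero_pow p n
  set f : N →+ ZMod (p ^ n) := (AddMonoidHom.fst (ZMod (p ^ n)) (ZMod (p ^ n))).comp N.subtype
  have h1 := f.ker.card_mul_index
  have hidx : f.ker.index = p ^ (n - a) := by
    rw [AddSubgroup.index_ker, ← card_mults (p := p) ha, ← hproj]
    congr 2
    rw [AddMonoidHom.range_comp, AddSubgroup.range_subtype]
  have hker : Nat.card f.ker = p ^ (n - b) := by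
    rw [← card_mults (p := p) hb]
    refine Nat.card_eq_of_bijective (fun x => (⟨((x : N) : Plane p n).2, ?_⟩ : mults p n b)) ⟨?_, ?_⟩
    · rw [← hvert]
      have h0 : ((x : N) : Plane p n).1 = 0 := x.2
      rw [← h0]; exact (x : N).2
    · intro x y h
      apply Subtype.ext; apply Subtype.ext
      have hx : ((x : N) : Plane p n).1 = 0 := x.2
      have hy : ((y : N) : Plane p n).1 = 0 := y.2
      exact Prod.ext (hx.trans hy.symm) (congrArg Subtype.val h)
    · rintro ⟨y, hy⟩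
      exact ⟨⟨⟨(0, y), (hvert y).mpr hy⟩, rfl⟩, rfl⟩
  rw [← h1, hker, hidx, mul_comm]

theorem Shape.map_fst (h : Shape M s t j) :
    M.map (AddMonoidHom.fst (ZMod (p ^ n)) (ZMod (p ^ n))) = mults p n s := by
  apply le_antisymm
  · rintro _ ⟨v, hv, rfl⟩; exact h.proj v hv
  · intro x hx
    obtain ⟨z, rfl⟩ := mem_mults.mp hx
    exact ⟨_, smul_mem_plane h.gen z, by simp [mul_comm]⟩

theorem Shape.card (h : Shape M s t j) : Nat.card M = p ^ (n - s) * p ^ (n - t) :=
  card_eq_of_parts M h.hs h.ht h.map_fst h.vert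

theorem Shape.mem_iff (h : Shape M s t j) {v : Plane p n} :
    v ∈ M ↔ ∃ z w : ZMod (p ^ n), v = z • ((p : ZMod (p ^ n)) ^ s, j) + (0, w) ∧ w ∈ mults p n t := by
  constructor
  · intro hv
    obtain ⟨z, hz⟩ := mem_mults.mp (h.proj v hv)
    refine ⟨z, v.2 - z * j, ?_, (h.vert _).mp ?_⟩
    · ext <;> simp [hz, mul_comm]
    · have := sub_mem hv (smul_mem_plane h.gen z)
      convert this using 1
      ext <;> simp [hz, mul_comm]
  · rintro ⟨z, w, rfl, hw⟩
    exact add_mem (smul_mem_plane h.gen z) ((h.vert w).mpr hw)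

theorem Shape.mem_perp_iff (h : Shape M s t j) {w : Plane p n} :
    w ∈ perp M ↔ w.1 * (p : ZMod (p ^ n)) ^ t = 0 ∧ (p : ZMod (p ^ n)) ^ s * w.2 = j * w.1 := by
  constructor
  · intro hw
    have h1 := hw _ ((h.vert _).mpr (mem_mults.mpr ⟨1, (mul_one _).symm⟩))
    have h2 := hw _ h.gen
    simp only [det] at h1 h2
    exact ⟨by linear_combination -h1, by linear_combination h2⟩
  · rintro ⟨h1, h2⟩ v hv
    obtain ⟨z, y, rfl, hy⟩ := h.mem_iff.mp hv
    obtain ⟨y', rfl⟩ := mem_mults.mp hy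
    simp only [det, Prod.fst_add, Prod.snd_add, Prod.smul_fst, Prod.smul_snd, smul_eq_mul, add_zero]
    linear_combination z * h2 - y' * h1

theorem card_mul_card_perp (M : AddSubgroup (Plane p n)) :
    Nat.card M * Nat.card (perp M) = p ^ (2 * n) := by
  have := neZero_pow p n
  obtain ⟨s, t, j, h⟩ := exists_shape M
  have hs := h.hs
  have ht := h.ht
  have hproj : (perp M).map (AddMonoidHom.fst (ZMod (p ^ n)) (ZMod (p ^ n))) = mults p n (n - t) := by
    apply le_antisymm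
    · rintro _ ⟨w, hw, rfl⟩
      exact (mul_pow_eq_zero_iff h.ht).mp (h.mem_perp_iff.mp hw).1
    · intro x hx
      have hx0 := (mul_pow_eq_zero_iff (p := p) h.ht).mpr hx
      obtain ⟨z, rfl⟩ := mem_mults.mp hx
      -- j * x is divisible by p ^ s
      have hj : j * (p : ZMod (p ^ n)) ^ (n - t) ∈ mults p n s := by
        have h1 : j * (p : ZMod (p ^ n)) ^ (n - t) * (p : ZMod (p ^ n)) ^ (n - s) = 0 := by
          obtain ⟨y, hy⟩ := mem_mults.mp h.link
          calc j * (p : ZMod (p ^ n)) ^ (n - t) * (p : ZMod (p ^ n)) ^ (n - s)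
              = ((p : ZMod (p ^ n)) ^ (n - s) * j) * (p : ZMod (p ^ n)) ^ (n - t) := by ring
            _ = ((p : ZMod (p ^ n)) ^ t * (p : ZMod (p ^ n)) ^ (n - t)) * y := by rw [hy]; ring
            _ = 0 := by rw [← pow_add, pow_eq_zero' (by omega), zero_mul]
        have h3 := (mul_pow_eq_zero_iff (p := p) (Nat.sub_le n s)).mp h1
        rwa [Nat.sub_sub_self h.hs] at h3
      obtain ⟨y, hy⟩ := mem_mults.mp hj
      refine ⟨((p : ZMod (p ^ n)) ^ (n - t) * z, y * z), h.mem_perp_iff.mpr ⟨hx0, ?_⟩, rfl⟩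
      show (p : ZMod (p ^ n)) ^ s * (y * z) = j * ((p : ZMod (p ^ n)) ^ (n - t) * z)
      linear_combination (-z) * hy
  have hvert : ∀ y, ((0 : ZMod (p ^ n)), y) ∈ perp M ↔ y ∈ mults p n (n - s) := by
    intro y
    rw [h.mem_perp_iff, ← mul_pow_eq_zero_iff h.hs]
    simp [mul_comm]
  rw [h.card, card_eq_of_parts _ (Nat.sub_le n t) (Nat.sub_le n s) hproj hvert, ← pow_add, ← pow_add,
    ← pow_add]
  congr 1
  omega

theorem perp_perp (M : AddSubgroup (Plane p n)) : perp (perp M) = M := by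
  have := neZero_pow p n
  have h1 := card_mul_card_perp M
  have h2 := card_mul_card_perp (perp M)
  refine (AddSubgroup.eq_of_le_of_card_ge (le_perp_perp M) (le_of_eq ?_)).symm
  exact Nat.eq_of_mul_eq_mul_left Nat.card_pos (h2.trans (h1.symm.trans (mul_comm _ _)))

/-- A subgroup is isotropic, or contains its orthogonal. -/
theorem le_perp_or_perp_le (M : AddSubgroup (Plane p n)) : M ≤ perp M ∨ perp M ≤ M := by
  obtain ⟨s, t, j, h⟩ := exists_shape M
  have := h.hs
  rcases le_or_gt n (s + t) with hst | hst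
  · left
    intro v hv u hu
    obtain ⟨z, y, rfl, hy⟩ := h.mem_iff.mp hv
    obtain ⟨z', y', rfl, hy'⟩ := h.mem_iff.mp hu
    obtain ⟨c, rfl⟩ := mem_mults.mp hy
    obtain ⟨c', rfl⟩ := mem_mults.mp hy'
    simp only [det, Prod.fst_add, Prod.snd_add, Prod.smul_fst, Prod.smul_snd, smul_eq_mul, add_zero]
    have h0 : (p : ZMod (p ^ n)) ^ s * (p : ZMod (p ^ n)) ^ t = 0 := by rw [← pow_add, pow_eq_zero' hst]
    linear_combination (z' * c - z * c') * h0
  · right
    intro w hw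
    obtain ⟨h1, h2⟩ := h.mem_perp_iff.mp hw
    obtain ⟨z, hz⟩ := mem_mults.mp (mults_anti (show s ≤ n - t by omega) ((mul_pow_eq_zero_iff h.ht).mp h1))
    have h3 : (w.2 - j * z) * (p : ZMod (p ^ n)) ^ s = 0 := by
      linear_combination h2 + j * hz
    refine h.mem_iff.mpr ⟨z, w.2 - j * z, ?_, mults_anti (show t ≤ n - s by omega) ((mul_pow_eq_zero_iff h.hs).mp h3)⟩
    ext <;> simp [hz, mul_comm]

theorem card_perp_zmultiples (v : Plane p n) :
    Nat.card (AddSubgroup.zmultiples v) * Nat.card (perp (AddSubgroup.zmultiples v)) = p ^ (2 * n) :=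
  card_mul_card_perp _

theorem isotropic_iff_card_le (M : AddSubgroup (Plane p n)) : M ≤ perp M ↔ Nat.card M ≤ p ^ n := by
  have := neZero_pow p n
  have h := card_mul_card_perp M
  rw [two_mul, pow_add] at h
  constructor
  · intro hle
    have h1 := AddSubgroup.card_le_of_le hle
    by_contra hlt
    have := Nat.mul_lt_mul_of_lt_of_lt (not_le.mp hlt) ((not_le.mp hlt).trans_le h1)
    omega
  · intro hle
    rcases le_perp_or_perp_le M with hM | hM
    · exact hM
    · by_contra hne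
      have h1 : Nat.card (perp M) < Nat.card M := by
        refine lt_of_le_of_ne (AddSubgroup.card_le_of_le hM) fun e => hne ?_
        rw [AddSubgroup.eq_of_le_of_card_ge hM e.ge]
      have := Nat.mul_lt_mul_of_le_of_lt hle (h1.trans_le hle) (pow_pos (Fact.out : p.Prime).pos n)
      omega

theorem mem_perp_zmultiples {v w : Plane p n} : w ∈ perp (AddSubgroup.zmultiples v) ↔ det v w = 0 := by
  refine ⟨fun h => h v (AddSubgroup.mem_zmultiples v), fun h u hu => ?_⟩
  obtain ⟨k, rfl⟩ := AddSubgroup.mem_zmultiples_iff.mp hu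
  simp only [det, zsmul_eq_mul, Prod.fst_mul, Prod.snd_mul, Prod.fst_intCast, Prod.snd_intCast] at h ⊢
  linear_combination (k : ZMod (p ^ n)) * h

/-- Elements of the plane of order dividing `p ^ i`. -/
theorem card_smul_eq_zero {i : ℕ} (hi : i ≤ n) :
    Nat.card {v : Plane p n // p ^ i • v = 0} = p ^ (2 * i) := by
  have := neZero_pow p n
  have e : ∀ v : Plane p n, p ^ i • v = 0 ↔ v.1 ∈ mults p n (n - i) ∧ v.2 ∈ mults p n (n - i) := by
    intro v
    rw [← mul_pow_eq_zero_iff hi, ← mul_pow_eq_zero_iff hi]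
    simp [Prod.ext_iff, mul_comm]
  rw [Nat.card_congr (Equiv.subtypeEquivRight e),
    Nat.card_congr (Equiv.subtypeProdEquivProd (p := fun x => x ∈ mults p n (n - i)) (q := fun x => x ∈ mults p n (n - i))),
    Nat.card_prod, card_mults (Nat.sub_le n i), Nat.sub_sub_self hi, ← pow_add, two_mul]

end Cfsg.Agent.Lib.Metacyclic
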