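import Cfsg.Prelude.Def_OddOrderLocal
import Cfsg.Agent.Lib.Metacyclic.Geom
import Cfsg.Agent.Lib.Metacyclic.Module
import Mathlib

/-! Metacyclic p-groups for odd p, in coordinates. -/

set_option autoImplicit false

open scoped commutatorElement

namespace Cfsg.Agent.Lib.Metacyclic

/-- Generators of a metacyclic `p`-group. -/
structure Data (G : Type*) [Group G] (p n : ℕ) where
  a : G
  b : G
  c : ℕ
  conj : b * a * b⁻¹ = a ^ (1 + p * c)
  gen : ∀ g : G, ∃ j i : ℕ, g = a ^ j * b ^ i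
  ord : orderOf (a ^ (p * c)) = p ^ n
  comm : Subgroup.zpowers (a ^ (p * c)) = commutator G
  odd : p ≠ 2
  isPPow : ∀ g : G, ∃ e, orderOf g = p ^ e

variable {G : Type*} [Group G]

theorem conj_pow' {a b : G} {r : ℕ} (h : b * a * b⁻¹ = a ^ r) : ∀ i j : ℕ, b ^ i * a ^ j = a ^ (j * r ^ i) * b ^ i := by
  intro i
  induction i with
  | zero => simp
  | succ i ih =>
    intro j
    have hb : b * a ^ j = a ^ (r * j) * b := by
      rw [pow_mul, ← h, conj_pow]; group
    rw [pow_succ, mul_assoc, hb, ← mul_assoc, ih, mul_assoc]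
    congr 2
    ring

theorem exists_data [Finite G] {p : ℕ} [Fact p.Prime] (hp : p ≠ 2) (hG : IsPGroup p G)
    (hmc : Cfsg.IsMetacyclic G) :
    ∃ n, Nat.card (commutator G) = p ^ n ∧ Nonempty (Data G p n) := by
  obtain ⟨N, hN, hNc, hQc⟩ := hmc
  obtain ⟨⟨a, haN⟩, ha⟩ := hNc.exists_zpow_surjective
  obtain ⟨q, hq⟩ := hQc.exists_zpow_surjective
  obtain ⟨b, rfl⟩ := QuotientGroup.mk_surjective q
  have haN' : ∀ x ∈ N, ∃ j : ℕ, a ^ j = x := fun x hx => by
    obtain ⟨k, hk⟩ := ha ⟨x, hx⟩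
    have hx' : x ∈ Subgroup.zpowers a := ⟨k, congrArg Subtype.val hk⟩
    exact Submonoid.mem_powers_iff _ _ |>.mp (mem_powers_iff_mem_zpowers.mpr hx')
  have hgen : ∀ g : G, ∃ j i : ℕ, g = a ^ j * b ^ i := by
    intro g
    have hg : (g : G ⧸ N) ∈ Subgroup.zpowers (b : G ⧸ N) := hq _
    obtain ⟨i, hi⟩ := (Submonoid.mem_powers_iff _ _).mp (mem_powers_iff_mem_zpowers.mpr hg)
    have hmem : g * (b ^ i)⁻¹ ∈ N := by
      rw [← QuotientGroup.eq_one_iff, QuotientGroup.mk_mul, QuotientGroup.mk_inv, QuotientGroup.mk_pow, hi,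
        mul_inv_cancel]
    obtain ⟨j, hj⟩ := haN' _ hmem
    exact ⟨j, i, by rw [hj, inv_mul_cancel_right]⟩
  obtain ⟨r0, hr0⟩ := haN' _ (hN.conj_mem a haN b)
  obtain ⟨c, hc⟩ : ∃ c, b * a * b⁻¹ = a ^ (1 + p * c) := by
    obtain ⟨k, hk⟩ := hG a
    by_cases ha1 : a = 1
    · exact ⟨0, by simp [ha1]⟩
    have hpdvd : p ∣ orderOf a := by
      obtain ⟨j, -, hj⟩ := (Nat.dvd_prime_pow (Fact.out : p.Prime)).mp (orderOf_dvd_of_pow_eq_one hk)
      rcases j with _ | j
      · exact absurd (orderOf_eq_one_iff.mp (by rw [hj, pow_zero])) ha1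
      · exact hj ▸ dvd_pow_self p (Nat.succ_ne_zero j)
    obtain ⟨m, hm⟩ := hG b
    have h1 := conj_pow' hr0.symm (p ^ m) 1
    rw [hm, one_mul, mul_one, one_mul, pow_one] at h1
    have h2 : (r0 ^ p ^ m : ℕ) ≡ 1 [MOD orderOf a] := pow_eq_pow_iff_modEq.mp (by rw [pow_one]; exact h1.symm)
    have h3 : ((r0 ^ p ^ m : ℕ) : ZMod p) = ((1 : ℕ) : ZMod p) :=
      (ZMod.natCast_eq_natCast_iff _ _ _).mpr (h2.of_dvd hpdvd)
    rw [Nat.cast_pow, ZMod.pow_card_pow, Nat.cast_one] at h3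
    have hr1 : 1 ≤ r0 := by
      rcases Nat.eq_zero_or_pos r0 with rfl | h
      · simp at h3
      · exact h
    obtain ⟨c, hc⟩ : p ∣ r0 - 1 := by
      rw [← ZMod.natCast_eq_zero_iff, Nat.cast_sub hr1, h3, Nat.cast_one, sub_self]
    exact ⟨c, by rw [← hr0]; congr 1; omega⟩
  have hmul : ∀ j i l m : ℕ, a ^ j * b ^ i * (a ^ l * b ^ m) = a ^ (j + l * (1 + p * c) ^ i) * b ^ (i + m) := by
    intro j i l m
    rw [show a ^ j * b ^ i * (a ^ l * b ^ m) = a ^ j * (b ^ i * a ^ l) * b ^ m by simp [mul_assoc],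
      conj_pow' hc, ← mul_assoc, mul_assoc, ← pow_add, ← pow_add]
  have hcomm : Subgroup.zpowers (a ^ (p * c)) = commutator G := by
    apply le_antisymm
    · rw [Subgroup.zpowers_le]
      have : a ^ (p * c) = ⁅b, a⁆ := by
        rw [commutatorElement_def, hc, pow_add, pow_one]
        group
      rw [this]
      exact Subgroup.commutator_mem_commutator (Subgroup.mem_top b) (Subgroup.mem_top a)
    · rw [commutator_def, Subgroup.commutator_le]
      intro g _ h _
      obtain ⟨j, i, rfl⟩ := hgen g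
      obtain ⟨l, m, rfl⟩ := hgen h
      rw [commutatorElement_def]
      have e1 := hmul j i l m
      have e2 := hmul l m j i
      rw [add_comm m i] at e2
      have : a ^ j * b ^ i * (a ^ l * b ^ m) * (a ^ j * b ^ i)⁻¹ * (a ^ l * b ^ m)⁻¹ =
          a ^ (j + l * (1 + p * c) ^ i) * (a ^ (l + j * (1 + p * c) ^ m))⁻¹ := by
        rw [mul_assoc (a ^ j * b ^ i * (a ^ l * b ^ m)), ← mul_inv_rev, e1, e2]
        group
      rw [this, pow_eq_one_add, pow_eq_one_add, ← zpow_natCast a (j + _), ← zpow_natCast a (l + _), ← zpow_neg, ← zpow_add]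
      refine Subgroup.mem_zpowers_iff.mpr ⟨(l : ℤ) * gsum (1 + p * c) i - (j : ℤ) * gsum (1 + p * c) m, ?_⟩
      rw [← zpow_natCast, ← zpow_mul]
      congr 1
      push_cast
      ring
  obtain ⟨n, hn⟩ := IsPGroup.iff_card.mp (hG.to_subgroup (commutator G))
  refine ⟨n, hn, ⟨⟨a, b, c, hc, hgen, ?_, hcomm, hp, IsPGroup.iff_orderOf.mp hG⟩⟩⟩
  rw [← Nat.card_zpowers, hcomm, hn]

namespace Data

variable {p n : ℕ} (D : Data G p n)

/-- The multiplier. -/
def r : ℕ := 1 + p * D.c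

theorem r_cast : ((D.r : ℕ) : ZMod p) = 1 := by simp [r]

theorem r_pow (i : ℕ) : D.r ^ i = 1 + p * D.c * gsum D.r i := by
  simp only [r, pow_eq_one_add]

theorem mul_eq (j i l m : ℕ) :
    D.a ^ j * D.b ^ i * (D.a ^ l * D.b ^ m) = D.a ^ (j + l * D.r ^ i) * D.b ^ (i + m) := by
  rw [show D.a ^ j * D.b ^ i * (D.a ^ l * D.b ^ m) = D.a ^ j * (D.b ^ i * D.a ^ l) * D.b ^ m by simp [mul_assoc],
    conj_pow' D.conj, ← mul_assoc, mul_assoc, ← pow_add, ← pow_add]
  rfl

theorem pow_d_eq_iff (x y : ℕ) :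
    D.a ^ (p * D.c * x) = D.a ^ (p * D.c * y) ↔ (x : ZMod (p ^ n)) = y := by
  rw [pow_mul D.a (p * D.c), pow_mul D.a (p * D.c), pow_eq_pow_iff_modEq, D.ord, ← ZMod.natCast_eq_natCast_iff]

theorem commute_iff (j i l m : ℕ) :
    D.a ^ j * D.b ^ i * (D.a ^ l * D.b ^ m) = D.a ^ l * D.b ^ m * (D.a ^ j * D.b ^ i) ↔
      (l : ZMod (p ^ n)) * gsum D.r i = j * gsum D.r m := by
  rw [D.mul_eq, D.mul_eq, add_comm m i, mul_left_inj, D.r_pow, D.r_pow, ← Nat.cast_mul, ← Nat.cast_mul,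
    ← D.pow_d_eq_iff]
  rw [show j + l * (1 + p * D.c * gsum D.r i) = (j + l) + p * D.c * (l * gsum D.r i) by ring,
    show l + j * (1 + p * D.c * gsum D.r m) = (j + l) + p * D.c * (j * gsum D.r m) by ring,
    pow_add D.a (j + l), pow_add D.a (j + l), mul_right_inj]

/-- An exponent pair of an element. -/
noncomputable def rep (g : G) : ℕ × ℕ := (Classical.choose (D.gen g), Classical.choose (Classical.choose_spec (D.gen g)))

theorem rep_spec (g : G) : g = D.a ^ (D.rep g).1 * D.b ^ (D.rep g).2 :=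
  Classical.choose_spec (Classical.choose_spec (D.gen g))

/-- The coordinates of an element. -/
noncomputable def psi (g : G) : Plane p n := ((gsum D.r (D.rep g).2 : ℕ), ((D.rep g).1 : ℕ))

theorem commute_iff_rep (g h : G) : g * h = h * g ↔ det (D.psi g) (D.psi h) = 0 := by
  conv_lhs => rw [D.rep_spec g, D.rep_spec h]
  rw [D.commute_iff]
  simp only [det, psi]
  rw [sub_eq_zero, mul_comm ((gsum D.r (D.rep g).2 : ℕ) : ZMod (p ^ n))]

theorem psi_pow_mul (j i : ℕ) :
    D.psi (D.a ^ j * D.b ^ i) = (((gsum D.r i : ℕ) : ZMod (p ^ n)), (j : ZMod (p ^ n))) := by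
  set g := D.a ^ j * D.b ^ i
  have hg := D.rep_spec g
  have h1 := D.commute_iff j i 1 0
  have h2 := D.commute_iff (D.rep g).1 (D.rep g).2 1 0
  have h3 := D.commute_iff j i 0 1
  have h4 := D.commute_iff (D.rep g).1 (D.rep g).2 0 1
  -- compare the commutators with a and with b
  have key : ∀ l m : ℕ, ((l : ZMod (p ^ n)) * gsum D.r i - j * gsum D.r m) =
      (l : ZMod (p ^ n)) * gsum D.r (D.rep g).2 - (D.rep g).1 * gsum D.r m := by
    intro l m
    have e1 := D.mul_eq j i l m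
    have e2 := D.mul_eq l m j i
    have e3 := D.mul_eq (D.rep g).1 (D.rep g).2 l m
    have e4 := D.mul_eq l m (D.rep g).1 (D.rep g).2
    rw [← hg] at e3 e4
    rw [show D.a ^ j * D.b ^ i = g from rfl] at e1 e2
    set A := l * gsum D.r i with hA
    set B := j * gsum D.r m with hB
    set A' := l * gsum D.r (D.rep g).2 with hA'
    set B' := (D.rep g).1 * gsum D.r m with hB'
    have c1 : g * (D.a ^ l * D.b ^ m) * (D.a ^ l * D.b ^ m * g)⁻¹ =
        D.a ^ (p * D.c * A) * (D.a ^ (p * D.c * B))⁻¹ := by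
      rw [e1, e2, add_comm m i, D.r_pow, D.r_pow,
        show j + l * (1 + p * D.c * gsum D.r i) = p * D.c * A + (j + l) by rw [hA]; ring,
        show l + j * (1 + p * D.c * gsum D.r m) = p * D.c * B + (j + l) by rw [hB]; ring,
        pow_add D.a _ (j + l), pow_add D.a _ (j + l)]
      group
    have c2 : g * (D.a ^ l * D.b ^ m) * (D.a ^ l * D.b ^ m * g)⁻¹ =
        D.a ^ (p * D.c * A') * (D.a ^ (p * D.c * B'))⁻¹ := by
      rw [e3, e4, add_comm m (D.rep g).2, D.r_pow, D.r_pow,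
        show (D.rep g).1 + l * (1 + p * D.c * gsum D.r (D.rep g).2) = p * D.c * A' + ((D.rep g).1 + l) by rw [hA']; ring,
        show l + (D.rep g).1 * (1 + p * D.c * gsum D.r m) = p * D.c * B' + ((D.rep g).1 + l) by rw [hB']; ring,
        pow_add D.a _ ((D.rep g).1 + l), pow_add D.a _ ((D.rep g).1 + l)]
      group
    have c3 := c1.symm.trans c2
    have c4 : D.a ^ (p * D.c * (A + B')) = D.a ^ (p * D.c * (A' + B)) := by
      have hc : Commute (D.a ^ (p * D.c * B))⁻¹ (D.a ^ (p * D.c * B')) := ((Commute.pow_pow_self D.a _ _).inv_left)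
      rw [mul_add, mul_add, pow_add, pow_add]
      calc D.a ^ (p * D.c * A) * D.a ^ (p * D.c * B')
          = (D.a ^ (p * D.c * A) * (D.a ^ (p * D.c * B))⁻¹) * D.a ^ (p * D.c * B') * D.a ^ (p * D.c * B) := by
            rw [mul_assoc (D.a ^ (p * D.c * A)), hc.eq]; group
        _ = _ := by rw [c3, inv_mul_cancel_right]
    have c5 := (D.pow_d_eq_iff _ _).mp c4
    rw [hA, hA', hB, hB'] at c5
    push_cast at c5
    linear_combination c5
  simp only [psi]
  refine Prod.ext ?_ ?_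
  · simpa [gsum_zero] using (key 1 0).symm
  · have := key 0 1
    simp only [Nat.cast_zero, zero_mul, gsum_one, Nat.cast_one, mul_one, zero_sub, neg_inj] at this
    exact this.symm

theorem psi_one : D.psi 1 = 0 := by
  have := D.psi_pow_mul 0 0
  simpa [gsum_zero, ← Prod.mk_zero_zero] using this

/-- The character. -/
noncomputable def chi (g : G) : ℕ := D.r ^ (D.rep g).2

theorem psi_mul (g h : G) : D.psi (g * h) = D.psi g + (D.chi g : ZMod (p ^ n)) • D.psi h := by
  conv_lhs => rw [D.rep_spec g, D.rep_spec h, D.mul_eq, D.psi_pow_mul]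
  simp only [psi, chi, gsum_add, Prod.smul_mk, Prod.mk_add_mk, smul_eq_mul]
  push_cast
  ext
  · rfl
  · show _ + _ * _ = _ + _ * _
    ring

theorem chi_isUnit [Fact p.Prime] (g : G) : IsUnit (D.chi g : ZMod (p ^ n)) := by
  refine isUnit_natCast ?_
  rw [← ZMod.natCast_eq_zero_iff, chi, pow_cast_one D.r_cast]
  exact one_ne_zero

end Data

end Cfsg.Agent.Lib.Metacyclic
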