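import Cfsg.Agent.Lib.Metacyclic.Basic
import Cfsg.Agent.Lib.Cores.Frattini

/-! Subgroups and centralizers of metacyclic p-groups for odd p. -/

set_option autoImplicit false

namespace Cfsg.Agent.Lib.Metacyclic

namespace Data

variable {G : Type*} [Group G] {p n : ℕ} [hp : Fact p.Prime] (D : Data G p n)

theorem psi_inj_iff {x y : G} : D.psi x = D.psi y ↔ D.psi (x⁻¹ * y) = 0 := by
  have h := D.psi_mul x (x⁻¹ * y)
  rw [mul_inv_cancel_left] at h
  rw [h, left_eq_add, (D.chi_isUnit x).smul_eq_zero]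

theorem psi_surjective : Function.Surjective D.psi := by
  haveI := neZero_pow p n
  rintro ⟨u, v⟩
  obtain ⟨i, hi⟩ := gsum_surjective D.odd D.r_cast n u
  exact ⟨D.a ^ v.val * D.b ^ i, by rw [D.psi_pow_mul, hi, ZMod.natCast_zmod_val]⟩

theorem mem_center_iff {z : G} : z ∈ Subgroup.center G ↔ D.psi z = 0 := by
  rw [Subgroup.mem_center_iff]
  constructor
  · intro h
    have key : ∀ w : Plane p n, det (D.psi z) w = 0 := fun w => by
      obtain ⟨x, rfl⟩ := D.psi_surjective w
      exact (D.commute_iff_rep z x).mp (h x).symm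
    exact Prod.ext (by simpa [det] using key (0, 1)) (by simpa [det] using key (1, 0))
  · intro h x
    exact ((D.commute_iff_rep z x).mpr (by simp [det, h])).symm

theorem psi_pow (g : G) (m : ℕ) : D.psi (g ^ m) = (gsum (D.chi g) m : ZMod (p ^ n)) • D.psi g := by
  induction m with
  | zero => simp [gsum, D.psi_one]
  | succ m ih =>
    rw [pow_succ', D.psi_mul, ih, smul_smul]
    rw [add_comm m 1, gsum_add, gsum_one, pow_one]
    push_cast
    rw [add_smul, one_smul]

theorem exists_pow_smul (g : G) (z : ZMod (p ^ n)) : ∃ m : ℕ, D.psi (g ^ m) = z • D.psi g := by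
  obtain ⟨m, hm⟩ := gsum_surjective D.odd (x := D.chi g) (pow_cast_one D.r_cast _) n z
  exact ⟨m, by rw [D.psi_pow, hm]⟩

/-- The image of a subgroup is a subgroup. -/
noncomputable def img (H : Subgroup G) : AddSubgroup (Plane p n) where
  carrier := D.psi '' H
  zero_mem' := ⟨1, one_mem H, D.psi_one⟩
  add_mem' := by
    rintro _ _ ⟨x, hx, rfl⟩ ⟨y, hy, rfl⟩
    obtain ⟨m, hm⟩ := D.exists_pow_smul y ((D.chi_isUnit x).unit⁻¹ : (ZMod (p ^ n))ˣ)
    refine ⟨x * y ^ m, mul_mem hx (pow_mem hy m), ?_⟩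
    rw [D.psi_mul, hm, smul_smul, IsUnit.mul_val_inv, one_smul]
  neg_mem' := by
    rintro _ ⟨x, hx, rfl⟩
    obtain ⟨m, hm⟩ := D.exists_pow_smul x (-1)
    exact ⟨x ^ m, pow_mem hx m, by rw [hm, neg_one_smul]⟩

theorem mem_img {H : Subgroup G} {v : Plane p n} : v ∈ D.img H ↔ ∃ x ∈ H, D.psi x = v := Iff.rfl

theorem psi_mem_img_iff {H : Subgroup G} (hH : Subgroup.center G ≤ H) {g : G} :
    D.psi g ∈ D.img H ↔ g ∈ H := by
  refine ⟨?_, fun h => ⟨g, h, rfl⟩⟩
  rintro ⟨x, hx, e⟩
  have := mul_mem hx (hH (D.mem_center_iff.mpr (D.psi_inj_iff.mp e)))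
  rwa [mul_inv_cancel_left] at this

/-- The preimage of a subgroup. -/
noncomputable def pre (M : AddSubgroup (Plane p n)) : Subgroup G where
  carrier := {g | D.psi g ∈ M}
  one_mem' := by show D.psi 1 ∈ M; rw [D.psi_one]; exact zero_mem M
  mul_mem' := fun {x y} hx hy => by
    show D.psi (x * y) ∈ M
    rw [D.psi_mul]
    exact add_mem hx (smul_mem_plane hy _)
  inv_mem' := fun {x} hx => by
    show D.psi x⁻¹ ∈ M
    have h := D.psi_mul x x⁻¹
    rw [mul_inv_cancel, D.psi_one] at h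
    have h2 : D.psi x⁻¹ = ((D.chi_isUnit x).unit⁻¹ : (ZMod (p ^ n))ˣ).val • (-(D.psi x)) := by
      rw [eq_comm, add_comm, add_eq_zero_iff_eq_neg] at h
      rw [← h, smul_smul, IsUnit.val_inv_mul, one_smul]
    rw [h2]
    exact smul_mem_plane (neg_mem hx) _

theorem mem_pre {M : AddSubgroup (Plane p n)} {g : G} : g ∈ D.pre M ↔ D.psi g ∈ M := Iff.rfl

theorem center_le_pre (M : AddSubgroup (Plane p n)) : Subgroup.center G ≤ D.pre M := fun z hz => by
  rw [mem_pre, D.mem_center_iff.mp hz]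
  exact zero_mem M

theorem img_pre (M : AddSubgroup (Plane p n)) : D.img (D.pre M) = M := by
  ext v
  refine ⟨fun ⟨x, hx, e⟩ => e ▸ hx, fun hv => ?_⟩
  obtain ⟨x, rfl⟩ := D.psi_surjective v
  exact ⟨x, hv, rfl⟩

theorem pre_img {H : Subgroup G} (hH : Subgroup.center G ≤ H) : D.pre (D.img H) = H := by
  ext g
  exact D.psi_mem_img_iff hH

theorem centralizer_eq (H : Subgroup G) :
    Subgroup.centralizer (H : Set G) = D.pre (perp (D.img H)) := by
  ext g
  rw [Subgroup.mem_centralizer_iff, mem_pre, mem_perp]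
  constructor
  · rintro h v ⟨x, hx, rfl⟩
    exact (D.commute_iff_rep x g).mp (h x hx)
  · exact fun h x hx => (D.commute_iff_rep x g).mpr (h _ ⟨x, hx, rfl⟩)

theorem isMulCommutative_iff (H : Subgroup G) : IsMulCommutative H ↔ D.img H ≤ perp (D.img H) := by
  constructor
  · rintro h _ ⟨x, hx, rfl⟩ v ⟨y, hy, rfl⟩
    exact (D.commute_iff_rep y x).mp (congrArg Subtype.val (h.is_comm.comm ⟨y, hy⟩ ⟨x, hx⟩))
  · intro h
    exact ⟨⟨fun x y => Subtype.ext ((D.commute_iff_rep x y).mpr (h ⟨y, y.2, rfl⟩ _ ⟨x, x.2, rfl⟩))⟩⟩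

theorem img_zpowers (g : G) : D.img (Subgroup.zpowers g) = AddSubgroup.zmultiples (D.psi g) := by
  apply le_antisymm
  · rintro _ ⟨x, hx, rfl⟩
    have hmem : D.pre (AddSubgroup.zmultiples (D.psi g)) ≥ Subgroup.zpowers g :=
      Subgroup.zpowers_le.mpr (AddSubgroup.mem_zmultiples _)
    exact hmem hx
  · rw [AddSubgroup.zmultiples_le]
    exact ⟨g, Subgroup.mem_zpowers g, rfl⟩

theorem centralizer_singleton (g : G) :
    Subgroup.centralizer ({g} : Set G) = D.pre (perp (AddSubgroup.zmultiples (D.psi g))) := by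
  rw [← Subgroup.centralizer_closure, ← Subgroup.zpowers_eq_closure, D.centralizer_eq, D.img_zpowers]

theorem img_eq_img_sup_center (H : Subgroup G) : D.img (H ⊔ Subgroup.center G) = D.img H := by
  refine le_antisymm ?_ (fun v ⟨x, hx, e⟩ => ⟨x, Subgroup.mem_sup_left hx, e⟩)
  rintro _ ⟨x, hx, rfl⟩
  obtain ⟨h, hh, z, hz, rfl⟩ := Subgroup.mem_sup_of_normal_right.mp hx
  refine ⟨h, hh, ?_⟩
  rw [D.psi_mul, D.mem_center_iff.mp hz, smul_zero, add_zero]

section Finite

variable [Finite G]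
include D

theorem card_eq (H : Subgroup G) :
    Nat.card H = Nat.card (D.img H) * Nat.card ↥(H ⊓ Subgroup.center G) := by
  set K := (Subgroup.center G).subgroupOf H
  let f : H ⧸ K → D.img H := Quotient.lift (fun x : H => (⟨D.psi x, x, x.2, rfl⟩ : D.img H)) fun x y hxy => by
    apply Subtype.ext
    have h : x⁻¹ * y ∈ K := QuotientGroup.leftRel_apply.mp hxy
    exact D.psi_inj_iff.mpr (D.mem_center_iff.mp h)
  have hf : Function.Bijective f := by
    constructor
    · intro u v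
      induction u using QuotientGroup.induction_on with
      | H x =>
        induction v using QuotientGroup.induction_on with
        | H y =>
          intro e
          rw [QuotientGroup.eq]
          exact D.mem_center_iff.mpr (D.psi_inj_iff.mp (congrArg Subtype.val e))
    · rintro ⟨_, x, hx, rfl⟩
      exact ⟨QuotientGroup.mk ⟨x, hx⟩, rfl⟩
  rw [Subgroup.card_eq_card_quotient_mul_card_subgroup K, Nat.card_eq_of_bijective f hf]
  congr 1
  rw [← Subgroup.card_map_of_injective H.subtype_injective (K := K), Subgroup.subgroupOf_map_subtype, inf_comm]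

theorem card_eq_of_center_le {H : Subgroup G} (hH : Subgroup.center G ≤ H) :
    Nat.card H = Nat.card (D.img H) * Nat.card (Subgroup.center G) := by
  rw [D.card_eq, inf_eq_right.mpr hH]

theorem card_pre (M : AddSubgroup (Plane p n)) :
    Nat.card (D.pre M) = Nat.card M * Nat.card (Subgroup.center G) := by
  rw [D.card_eq_of_center_le (D.center_le_pre M), D.img_pre]

omit D in
theorem card_plane (p n : ℕ) : Nat.card (Plane p n) = p ^ (2 * n) := by
  rw [Nat.card_prod, Nat.card_zmod, ← pow_add, two_mul]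

theorem card_group : Nat.card G = p ^ (2 * n) * Nat.card (Subgroup.center G) := by
  have h : D.img (⊤ : Subgroup G) = ⊤ := eq_top_iff.mpr fun v _ => by
    obtain ⟨x, rfl⟩ := D.psi_surjective v
    exact ⟨x, trivial, rfl⟩
  rw [← Subgroup.card_top, D.card_eq_of_center_le le_top, h, AddSubgroup.card_top, card_plane]

theorem center_index : (Subgroup.center G).index = p ^ (2 * n) := by
  have h := (Subgroup.center G).card_mul_index
  rw [D.card_group, mul_comm (p ^ (2 * n))] at h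
  exact Nat.eq_of_mul_eq_mul_left Nat.card_pos h

theorem card_commutator : Nat.card (commutator G) = p ^ n := by
  rw [← D.comm, Nat.card_zpowers, D.ord]

theorem commutator_index : (commutator G).index = p ^ n * Nat.card (Subgroup.center G) := by
  have h := (commutator G).card_mul_index
  rw [D.card_commutator, D.card_group, two_mul, pow_add, mul_assoc] at h
  exact Nat.eq_of_mul_eq_mul_left (pow_pos hp.out.pos n) h

/-- A nonabelian subgroup contains the centre. -/
theorem center_le_of_nonabelian {L : Subgroup G} (hL : ¬ IsMulCommutative L) : Subgroup.center G ≤ L := by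
  classical
  obtain ⟨γ, hγ⟩ : ∃ γ, orderOf D.b = γ := ⟨_, rfl⟩
  -- the intersection with ⟨a⟩
  have hexT : ∃ t, 0 < t ∧ D.a ^ t ∈ L := ⟨orderOf D.a, orderOf_pos _, by rw [pow_orderOf_eq_one]; exact one_mem L⟩
  have hexS : ∃ s, 0 < s ∧ ∃ j : ℕ, D.a ^ j * D.b ^ s ∈ L := ⟨γ, hγ ▸ orderOf_pos _, 0, by
    rw [← hγ, pow_orderOf_eq_one, pow_zero, mul_one]; exact one_mem L⟩
  obtain ⟨ht0, ht⟩ := Nat.find_spec hexT
  obtain ⟨hs0, j₀, hs⟩ := Nat.find_spec hexS
  set t := Nat.find hexT with htdef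
  set s := Nat.find hexS with hsdef
  set z := D.a ^ j₀ * D.b ^ s with hz
  have hdivT : ∀ j, D.a ^ j ∈ L → t ∣ j := by
    intro j hj
    by_contra hnd
    have h1 : D.a ^ (j % t) ∈ L := by
      have e : D.a ^ j = D.a ^ (j % t) * (D.a ^ t) ^ (j / t) := by rw [← pow_mul, ← pow_add, Nat.mod_add_div]
      rw [e] at hj
      simpa using mul_mem hj (inv_mem (pow_mem ht (j / t)))
    exact Nat.find_min hexT (Nat.mod_lt j ht0) ⟨Nat.pos_of_ne_zero fun h => hnd (Nat.dvd_of_mod_eq_zero h), h1⟩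
  have hnorm : ∀ (i : ℕ) (j : ℕ), ∃ j' : ℕ, D.a ^ j * D.b ^ i * z⁻¹ = D.a ^ j' * D.b ^ (i + (γ - 1) * s) := by
    intro i j
    obtain ⟨j', i', he⟩ := D.gen (D.a ^ j * D.b ^ i * z⁻¹)
    have hb : z⁻¹ = D.b ^ ((γ - 1) * s) * D.a ^ ((orderOf D.a - 1) * j₀) := by
      refine inv_eq_of_mul_eq_one_right ?_
      have hγ1 : 1 ≤ γ := hγ ▸ orderOf_pos _
      have ha1 : 1 ≤ orderOf D.a := orderOf_pos _
      rw [hz, show D.a ^ j₀ * D.b ^ s * (D.b ^ ((γ - 1) * s) * D.a ^ ((orderOf D.a - 1) * j₀)) =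
          D.a ^ j₀ * (D.b ^ s * D.b ^ ((γ - 1) * s)) * D.a ^ ((orderOf D.a - 1) * j₀) by simp [mul_assoc],
        ← pow_add, show s + (γ - 1) * s = γ * s by
          rw [add_comm, ← Nat.succ_mul, Nat.succ_eq_add_one, Nat.sub_add_cancel hγ1],
        pow_mul, ← hγ, pow_orderOf_eq_one, one_pow, mul_one, ← pow_add,
        show j₀ + (orderOf D.a - 1) * j₀ = orderOf D.a * j₀ by
          rw [add_comm, ← Nat.succ_mul, Nat.succ_eq_add_one, Nat.sub_add_cancel ha1],
        pow_mul, pow_orderOf_eq_one, one_pow]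
    refine ⟨j + ((orderOf D.a - 1) * j₀) * D.r ^ (i + (γ - 1) * s), ?_⟩
    rw [hb, show D.a ^ j * D.b ^ i * (D.b ^ ((γ - 1) * s) * D.a ^ ((orderOf D.a - 1) * j₀)) =
        D.a ^ j * D.b ^ (i + (γ - 1) * s) * (D.a ^ ((orderOf D.a - 1) * j₀) * D.b ^ 0) by
          simp [pow_add, mul_assoc], D.mul_eq, Nat.add_zero]
  have hstep : ∀ i j : ℕ, s ≤ i → D.a ^ j * D.b ^ i ∈ L → ∃ j', D.a ^ j' * D.b ^ (i - s) ∈ L ∧
      D.a ^ j * D.b ^ i = D.a ^ j' * D.b ^ (i - s) * z := by
    intro i j hi hmem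
    obtain ⟨j', hj'⟩ := hnorm i j
    have hγ1 : 1 ≤ γ := hγ ▸ orderOf_pos _
    have e : D.b ^ (i + (γ - 1) * s) = D.b ^ (i - s) := by
      rw [show i + (γ - 1) * s = (i - s) + γ * s by
        obtain ⟨g', rfl⟩ : ∃ g', γ = g' + 1 := ⟨γ - 1, by omega⟩
        simp only [Nat.add_sub_cancel, Nat.succ_mul]; omega,
        pow_add, pow_mul, ← hγ, pow_orderOf_eq_one, one_pow, mul_one]
    rw [e] at hj'
    refine ⟨j', ?_, by rw [← hj', inv_mul_cancel_right]⟩
    rw [← hj']
    exact mul_mem hmem (inv_mem hs)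
  have hform : ∀ i j : ℕ, D.a ^ j * D.b ^ i ∈ L →
      D.a ^ j * D.b ^ i ∈ Subgroup.closure ({D.a ^ t, z} : Set G) := by
    intro i
    induction i using Nat.strongRecOn with
    | ind i ih =>
      intro j hmem
      by_cases hi : s ≤ i
      · obtain ⟨j', hj', e⟩ := hstep i j hi hmem
        rw [e]
        exact mul_mem (ih _ (by omega) j' hj') (Subgroup.subset_closure (by simp))
      · rcases Nat.eq_zero_or_pos i with rfl | hi0
        · rw [pow_zero, mul_one] at hmem ⊢
          obtain ⟨q, rfl⟩ := hdivT j hmem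
          rw [pow_mul]
          exact pow_mem (Subgroup.subset_closure (by simp)) q
        · exact absurd ⟨hi0, j, hmem⟩ (Nat.find_min hexS (not_le.mp hi))
  have hclos : L ≤ Subgroup.closure ({D.a ^ t, z} : Set G) := fun x hx => by
    obtain ⟨j, i, rfl⟩ := D.gen x
    exact hform i j hx
  -- the two generators do not commute
  have hdet : (t : ZMod (p ^ n)) * (gsum D.r s : ℕ) ≠ 0 := by
    intro h0
    apply hL
    have hct : D.a ^ t * z = z * D.a ^ t := by
      have h := (D.commute_iff t 0 j₀ s).mpr (by rw [gsum_zero, Nat.cast_zero, mul_zero]; exact h0.symm)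
      rwa [pow_zero, mul_one] at h
    have hab : ∀ x ∈ Subgroup.closure ({D.a ^ t, z} : Set G), ∀ y ∈ Subgroup.closure ({D.a ^ t, z} : Set G),
        x * y = y * x := by
      have hle : Subgroup.closure ({D.a ^ t, z} : Set G) ≤
          Subgroup.centralizer (Subgroup.closure ({D.a ^ t, z} : Set G) : Set G) := by
        rw [Subgroup.centralizer_closure, Subgroup.closure_le]
        intro x hx y hy
        rcases hx with rfl | rfl <;> rcases hy with rfl | rfl <;> first | rfl | exact hct | exact hct.symm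
      exact fun x hx y hy => (Subgroup.mem_centralizer_iff.mp (hle hy) x hx)
    exact ⟨⟨fun x y => Subtype.ext (hab x (hclos x.2) y (hclos y.2))⟩⟩
  -- valuations
  obtain ⟨v, t', ht', htv⟩ := Nat.exists_eq_pow_mul_and_not_dvd ht0.ne' p hp.out.ne_one
  obtain ⟨w, s', hs', hsw⟩ := Nat.exists_eq_pow_mul_and_not_dvd hs0.ne' p hp.out.ne_one
  have hvw : v + w < n := by
    by_contra hge
    apply hdet
    have h1 : p ^ w ∣ gsum D.r s := (dvd_gsum_iff D.odd D.r_cast w s).mpr (hsw ▸ dvd_mul_right _ _)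
    have h2 : p ^ n ∣ t * gsum D.r s := by
      refine (pow_dvd_pow p (not_lt.mp hge)).trans ?_
      rw [pow_add]
      exact mul_dvd_mul (htv ▸ dvd_mul_right _ _) h1
    rw [← Nat.cast_mul, ZMod.natCast_eq_zero_iff]
    exact h2
  have hLC : ∀ x : G, D.psi x = 0 → x ∈ L := by
    intro x hx
    obtain ⟨j, i, rfl⟩ := D.gen x
    rw [D.psi_pow_mul, Prod.mk_eq_zero] at hx
    obtain ⟨hxi, hxj⟩ := hx
    rw [ZMod.natCast_eq_zero_iff, dvd_gsum_iff D.odd D.r_cast] at hxi
    rw [ZMod.natCast_eq_zero_iff] at hxj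
    have hapow : D.a ^ p ^ v ∈ L := by
      -- t' is invertible modulo the order of a
      obtain ⟨e, he⟩ : ∃ e, orderOf D.a = p ^ e := D.isPPow D.a
      obtain ⟨m, hm⟩ := Nat.exists_mul_mod_eq_one_of_coprime (k := p ^ (e + 1))
        (Nat.Coprime.pow_right _ (hp.out.coprime_iff_not_dvd.mpr ht').symm) (Nat.one_lt_pow (Nat.succ_ne_zero e) hp.out.one_lt)
      have h1 := pow_mem ht m
      rw [htv, ← pow_mul, mul_assoc] at h1
      have h2 : D.a ^ (p ^ v * (t' * m)) = D.a ^ p ^ v := by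
        rw [pow_eq_pow_iff_modEq, he]
        have h3 : t' * m ≡ 1 [MOD p ^ (e + 1)] := by
          unfold Nat.ModEq
          rw [hm.2, Nat.one_mod_eq_one.mpr (Nat.one_lt_pow (Nat.succ_ne_zero e) hp.out.one_lt).ne']
        simpa using ((h3.of_dvd (pow_dvd_pow p (Nat.le_succ e))).mul_left (p ^ v))
      rwa [h2] at h1
    have hv' : ∀ q : ℕ, p ^ v ∣ q → D.a ^ q ∈ L := by
      rintro q ⟨q', rfl⟩
      rw [pow_mul]; exact pow_mem hapow q'
    obtain ⟨e, he⟩ : ∃ e, orderOf D.b = p ^ e := D.isPPow D.b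
    obtain ⟨m, hm⟩ := Nat.exists_mul_mod_eq_one_of_coprime (k := p ^ (e + 1))
      (Nat.Coprime.pow_right _ (hp.out.coprime_iff_not_dvd.mpr hs').symm) (Nat.one_lt_pow (Nat.succ_ne_zero e) hp.out.one_lt)
    -- an element of L with b-exponent i
    obtain ⟨i', rfl⟩ : p ^ w ∣ i := (pow_dvd_pow p (show w ≤ n by omega)).trans hxi
    have hpow : ∀ k : ℕ, z ^ k = D.a ^ (j₀ * gsum (D.r ^ s) k) * D.b ^ (s * k) := by
      intro k
      induction k with
      | zero => simp [gsum]
      | succ k ih =>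
        rw [pow_succ, ih, hz, D.mul_eq]
        rw [show j₀ * gsum (D.r ^ s) k + j₀ * D.r ^ (s * k) = j₀ * gsum (D.r ^ s) (k + 1) by
          rw [gsum_succ, ← pow_mul]; ring, Nat.mul_succ]
    have hk := pow_mem hs (m * i')
    rw [hpow] at hk
    have hb : D.b ^ (s * (m * i')) = D.b ^ (p ^ w * i') := by
      rw [pow_eq_pow_iff_modEq, he, hsw]
      have h3 : s' * m ≡ 1 [MOD p ^ (e + 1)] := by
        unfold Nat.ModEq
        rw [hm.2, Nat.one_mod_eq_one.mpr (Nat.one_lt_pow (Nat.succ_ne_zero e) hp.out.one_lt).ne']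
      have := ((h3.of_dvd (pow_dvd_pow p (Nat.le_succ e))).mul_left (p ^ w)).mul_right i'
      simpa [mul_assoc] using this
    rw [hb] at hk
    have hdiv : p ^ v ∣ j₀ * gsum (D.r ^ s) (m * i') := by
      refine Dvd.dvd.mul_left ?_ _
      rw [dvd_gsum_iff D.odd (pow_cast_one D.r_cast s)]
      refine Dvd.dvd.mul_left ?_ _
      have h4 : p ^ (w + v) ∣ p ^ w * i' := (pow_dvd_pow p (show w + v ≤ n by omega)).trans hxi
      rw [pow_add] at h4
      exact Nat.dvd_of_mul_dvd_mul_left (pow_pos hp.out.pos w) h4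
    have hbmem : D.b ^ (p ^ w * i') ∈ L := by
      have := mul_mem (inv_mem (hv' _ hdiv)) hk
      rwa [inv_mul_cancel_left] at this
    exact mul_mem (hv' _ ((pow_dvd_pow p (show v ≤ n by omega)).trans hxj)) hbmem
  exact fun x hx => hLC x (D.mem_center_iff.mp hx)

end Finite

end Data

end Cfsg.Agent.Lib.Metacyclic
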