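import Cfsg.Agent.Lib.Metacyclic.Main
import Cfsg.Prelude.Def_BaumannBlocks
import Cfsg.Prelude.Def_Transfer

/-! Structural results on metacyclic p-groups for odd p. -/

set_option autoImplicit false

namespace Cfsg.Agent.Lib.Metacyclic

namespace Data

variable {G : Type*} [Group G] [Finite G] {p n : ℕ} [hp : Fact p.Prime] (D : Data G p n)
include D

theorem abelian_iff (L : Subgroup G) : IsMulCommutative L ↔ Nat.card L ≤ (commutator G).index := by
  rw [D.commutator_index]
  constructor
  · intro h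
    have h1 := (D.isMulCommutative_iff L).mp h
    rw [isotropic_iff_card_le] at h1
    rw [D.card_eq L]
    exact Nat.mul_le_mul h1 (Subgroup.card_le_of_le inf_le_right)
  · intro h
    by_contra hL
    have hle := D.center_le_of_nonabelian hL
    rw [D.card_eq_of_center_le hle] at h
    exact hL ((D.isMulCommutative_iff L).mpr ((isotropic_iff_card_le _).mpr
      (Nat.le_of_mul_le_mul_right h Nat.card_pos)))

theorem maximal_iff (L : Subgroup G) :
    Maximal (fun K : Subgroup G => IsMulCommutative ↥K) L ↔ Nat.card L = (commutator G).index := by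
  constructor
  · intro h
    have hab := (D.isMulCommutative_iff L).mp h.1
    have hLZ : Subgroup.center G ≤ L := by
      have h1 : IsMulCommutative ↥(L ⊔ Subgroup.center G) := by
        rw [D.isMulCommutative_iff, D.img_eq_img_sup_center]; exact hab
      exact le_sup_right.trans (h.2 h1 le_sup_left)
    by_contra hne
    have hlt : Nat.card L < (commutator G).index := lt_of_le_of_ne ((D.abelian_iff L).mp h.1) hne
    rw [D.commutator_index, D.card_eq_of_center_le hLZ] at hlt
    have hM : Nat.card (D.img L) < p ^ n := Nat.lt_of_mul_lt_mul_right hlt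
    have hstrict : D.img L < perp (D.img L) := by
      refine lt_of_le_of_ne hab fun e => ?_
      have h2 := card_mul_card_perp (D.img L)
      rw [← e, two_mul, pow_add] at h2
      have := Nat.mul_lt_mul_of_lt_of_lt hM hM
      omega
    obtain ⟨v, hv, hvn⟩ := SetLike.exists_of_lt hstrict
    obtain ⟨g, rfl⟩ := D.psi_surjective v
    set M := D.img L ⊔ AddSubgroup.zmultiples (D.psi g) with hM'
    have hMiso : M ≤ perp M := by
      intro u hu w hw
      obtain ⟨u₁, hu₁, u₂, hu₂, rfl⟩ := AddSubgroup.mem_sup.mp hu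
      obtain ⟨w₁, hw₁, w₂, hw₂, rfl⟩ := AddSubgroup.mem_sup.mp hw
      obtain ⟨k, rfl⟩ := AddSubgroup.mem_zmultiples_iff.mp hu₂
      obtain ⟨l, rfl⟩ := AddSubgroup.mem_zmultiples_iff.mp hw₂
      have a1 : det w₁ u₁ = 0 := hab hu₁ w₁ hw₁
      have a2 : det w₁ (D.psi g) = 0 := hv w₁ hw₁
      have a3 : det u₁ (D.psi g) = 0 := hv u₁ hu₁
      simp only [det, zsmul_eq_mul, Prod.fst_add, Prod.snd_add, Prod.fst_mul, Prod.snd_mul, Prod.fst_intCast,
        Prod.snd_intCast] at a1 a2 a3 ⊢
      linear_combination a1 + (k : ZMod (p ^ n)) * a2 - (l : ZMod (p ^ n)) * a3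
    have hpre : IsMulCommutative ↥(D.pre M) := by rw [D.isMulCommutative_iff, D.img_pre]; exact hMiso
    have hg : g ∈ L := by
      refine h.2 hpre ?_ (show D.psi g ∈ M from AddSubgroup.mem_sup_right (AddSubgroup.mem_zmultiples _))
      exact fun x hx => (show D.psi x ∈ M from AddSubgroup.mem_sup_left ⟨x, hx, rfl⟩)
    exact hvn ⟨g, hg, rfl⟩
  · intro h
    refine ⟨(D.abelian_iff L).mpr h.le, fun K hK hLK => ?_⟩
    exact (Subgroup.eq_of_le_of_card_ge hLK (((D.abelian_iff K).mp hK).trans h.ge)).ge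

theorem centralizer_index (g : G) :
    (Subgroup.centralizer ({g} : Set G)).index = Nat.card (AddSubgroup.zmultiples (D.psi g)) := by
  have := neZero_pow p n
  have h := (Subgroup.centralizer ({g} : Set G)).card_mul_index
  rw [D.centralizer_singleton, D.card_pre, D.card_group] at h
  have h2 := card_mul_card_perp (AddSubgroup.zmultiples (D.psi g))
  rw [← h2] at h
  rw [D.centralizer_singleton]
  refine Nat.eq_of_mul_eq_mul_left (Nat.mul_pos (Nat.card_pos (α := perp (AddSubgroup.zmultiples (D.psi g))))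
    (Nat.card_pos (α := Subgroup.center G))) ?_
  rw [h]; ring

theorem index_le_iff (g : G) (i : ℕ) (_hi : i ≤ n) :
    (Subgroup.centralizer ({g} : Set G)).index ≤ p ^ i ↔ p ^ i • D.psi g = 0 := by
  have := neZero_pow p n
  rw [D.centralizer_index, Nat.card_zmultiples]
  constructor
  · intro h
    obtain ⟨k, -, hk⟩ := (Nat.dvd_prime_pow hp.out).mp (show addOrderOf (D.psi g) ∣ p ^ n by
      rw [addOrderOf_dvd_iff_nsmul_eq_zero]
      ext <;> simp [pow_eq_zero' (p := p) (le_refl n)])
    rw [hk, Nat.pow_le_pow_iff_right hp.out.one_lt] at h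
    rw [← addOrderOf_dvd_iff_nsmul_eq_zero, hk]
    exact pow_dvd_pow p h
  · intro h
    exact Nat.le_of_dvd (pow_pos hp.out.pos i) (addOrderOf_dvd_of_nsmul_eq_zero h)

theorem count_class_size (i : ℕ) (hi : 1 ≤ i) (hin : i ≤ n) :
    Nat.card {g : G // (Subgroup.centralizer ({g} : Set G)).index = p ^ i} =
      Nat.card ↥(Subgroup.center G) * (p ^ (2 * i) - p ^ (2 * i - 2)) := by
  classical
  have := neZero_pow p n
  have key : ∀ g : G, (Subgroup.centralizer ({g} : Set G)).index = p ^ i ↔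
      D.psi g ∈ {v : Plane p n | p ^ i • v = 0} \ {v : Plane p n | p ^ (i - 1) • v = 0} := by
    intro g
    rw [Set.mem_diff, Set.mem_setOf_eq, Set.mem_setOf_eq, ← D.index_le_iff g i hin,
      ← D.index_le_iff g (i - 1) (by omega)]
    constructor
    · intro h
      rw [h]
      exact ⟨le_rfl, fun hle => by have := (Nat.pow_le_pow_iff_right hp.out.one_lt).mp hle; omega⟩
    · rintro ⟨h1, h2⟩
      obtain ⟨k, -, hk⟩ := (Nat.dvd_prime_pow hp.out).mp (show (Subgroup.centralizer ({g} : Set G)).index ∣ p ^ n by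
        rw [D.centralizer_index, Nat.card_zmultiples, addOrderOf_dvd_iff_nsmul_eq_zero]
        ext <;> simp [pow_eq_zero' (p := p) (le_refl n)])
      rw [hk, Nat.pow_le_pow_iff_right hp.out.one_lt] at h1 h2
      rw [hk, show k = i by omega]
  rw [Nat.card_congr (Equiv.subtypeEquivRight key)]
  -- fibres are cosets of the centre
  set T := {v : Plane p n | p ^ i • v = 0} \ {v : Plane p n | p ^ (i - 1) • v = 0} with hT
  choose sec hsec using D.psi_surjective
  have e : {g : G // D.psi g ∈ T} ≃ Subgroup.center G × T :=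
    { toFun := fun g => (⟨(sec (D.psi g))⁻¹ * g, D.mem_center_iff.mpr (D.psi_inj_iff.mp (hsec _))⟩, ⟨D.psi g, g.2⟩)
      invFun := fun x => ⟨sec (x.2 : Plane p n) * (x.1 : G), by
        rw [D.psi_mul, D.mem_center_iff.mp x.1.2, smul_zero, add_zero, hsec]; exact x.2.2⟩
      left_inv := fun g => Subtype.ext (mul_inv_cancel_left _ _)
      right_inv := fun x => by
        have h : D.psi (sec (x.2 : Plane p n) * (x.1 : G)) = x.2 := by
          rw [D.psi_mul, D.mem_center_iff.mp x.1.2, smul_zero, add_zero, hsec]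
        refine Prod.ext (Subtype.ext ?_) (Subtype.ext h)
        show (sec (D.psi _))⁻¹ * _ = _
        rw [h, inv_mul_cancel_left] }
  rw [Nat.card_congr e, Nat.card_prod]
  congr 1
  have hsub : {v : Plane p n | p ^ (i - 1) • v = 0} ⊆ {v : Plane p n | p ^ i • v = 0} := by
    intro v hv
    show p ^ i • v = 0
    rw [show p ^ i = p * p ^ (i - 1) by rw [← pow_succ', Nat.sub_add_cancel hi], mul_nsmul', hv, smul_zero]
  have h1 : Nat.card {v : Plane p n | p ^ i • v = 0} = p ^ (2 * i) := card_smul_eq_zero hin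
  have h2 : Nat.card {v : Plane p n | p ^ (i - 1) • v = 0} = p ^ (2 * i - 2) := by
    rw [show 2 * i - 2 = 2 * (i - 1) by omega]
    exact card_smul_eq_zero (by omega)
  rw [Nat.card_coe_set_eq, Set.ncard_diff hsub, ← Nat.card_coe_set_eq, ← Nat.card_coe_set_eq, h1, h2]

theorem mem_powers_iff {s : ℕ} (hs : s ≤ n) (g : G) :
    g ∈ Subgroup.closure {x : G | ∃ y : G, y ^ p ^ s = x} ↔ ∃ w : Plane p n, D.psi g = p ^ s • w := by
  have := neZero_pow p n
  set P := Subgroup.closure {x : G | ∃ y : G, y ^ p ^ s = x} with hP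
  have hpow : ∀ x : G, x ^ p ^ s ∈ P := fun x => Subgroup.subset_closure ⟨x, rfl⟩
  have hpowd : ∀ (x : G) (q : ℕ), p ^ s ∣ q → x ^ q ∈ P := by
    rintro x q ⟨k, rfl⟩
    rw [pow_mul]; exact pow_mem (hpow x) k
  constructor
  · intro hg
    set M : AddSubgroup (Plane p n) := (nsmulAddMonoidHom (p ^ s)).range with hM
    have hle : P ≤ D.pre M := by
      rw [hP, Subgroup.closure_le]
      rintro _ ⟨y, rfl⟩
      show D.psi (y ^ p ^ s) ∈ M
      rw [D.psi_pow]
      obtain ⟨k, hk⟩ : p ^ s ∣ gsum (D.chi y) (p ^ s) :=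
        (dvd_gsum_iff D.odd (pow_cast_one D.r_cast _) s _).mpr dvd_rfl
      refine ⟨(k : ZMod (p ^ n)) • D.psi y, ?_⟩
      rw [nsmulAddMonoidHom_apply, hk, Nat.cast_mul, mul_smul, ← Nat.cast_smul_eq_nsmul (ZMod (p ^ n))]
    obtain ⟨w, hw⟩ := hle hg
    exact ⟨w, hw.symm⟩
  · rintro ⟨w, hw⟩
    obtain ⟨j, i, rfl⟩ := D.gen g
    rw [D.psi_pow_mul, Prod.ext_iff] at hw
    have hdiv : ∀ (q : ℕ) (u : ZMod (p ^ n)), (q : ZMod (p ^ n)) = p ^ s • u → p ^ s ∣ q := by
      intro q u hq
      have h1 := congrArg (ZMod.castHom (pow_dvd_pow p hs) (ZMod (p ^ s))) hq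
      rw [map_natCast, map_nsmul] at h1
      rw [← ZMod.natCast_eq_zero_iff, h1, nsmul_eq_mul, ZMod.natCast_self, zero_mul]
    exact mul_mem (hpowd _ _ (hdiv j w.2 hw.2))
      (hpowd _ _ ((dvd_gsum_iff D.odd D.r_cast s i).mp (hdiv _ w.1 hw.1)))

omit D in
theorem smul_eq_zero_iff_mult {s : ℕ} (hs : s ≤ n) (v : Plane p n) :
    p ^ (n - s) • v = 0 ↔ ∃ w : Plane p n, v = p ^ s • w := by
  have := neZero_pow p n
  have key : ∀ x : ZMod (p ^ n), p ^ (n - s) • x = 0 ↔ x ∈ mults p n s := by
    intro x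
    have h := mul_pow_eq_zero_iff (p := p) (Nat.sub_le n s) (x := x)
    rw [Nat.sub_sub_self hs] at h
    rw [← h, nsmul_eq_mul, mul_comm, Nat.cast_pow]
  constructor
  · intro h
    obtain ⟨x, hx⟩ := mem_mults.mp ((key v.1).mp (congrArg Prod.fst h))
    obtain ⟨y, hy⟩ := mem_mults.mp ((key v.2).mp (congrArg Prod.snd h))
    exact ⟨(x, y), by ext <;> simp [hx, hy]⟩
  · rintro ⟨w, rfl⟩
    rw [← mul_nsmul', ← pow_add, Nat.sub_add_cancel hs]
    ext <;> simp [pow_eq_zero' (p := p) (le_refl n)]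

theorem powers_spec {s : ℕ} (hs : s ≤ n) (g : G) :
    g ∈ Subgroup.closure {x : G | ∃ y : G, y ^ p ^ s = x} ↔
      (Subgroup.centralizer ({g} : Set G)).index ≤ p ^ (n - s) := by
  rw [D.mem_powers_iff hs, D.index_le_iff g (n - s) (Nat.sub_le n s), smul_eq_zero_iff_mult hs]

theorem closure_pow_eq_center : Subgroup.closure {x : G | ∃ y : G, y ^ p ^ n = x} = Subgroup.center G := by
  have := neZero_pow p n
  ext g
  rw [D.mem_powers_iff le_rfl, D.mem_center_iff]
  constructor
  · rintro ⟨w, hw⟩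
    rw [hw]
    ext <;> simp [pow_eq_zero' (p := p) (le_refl n)]
  · exact fun h => ⟨0, by rw [h, smul_zero]⟩

theorem mem_frattini_iff (hG : IsPGroup p G) (hn : n ≠ 0) (g : G) :
    g ∈ frattini G ↔ ∃ w : Plane p n, D.psi g = p ^ 1 • w := by
  have := neZero_pow p n
  constructor
  · intro hg
    have key : ∀ f : ZMod (p ^ n) × ZMod (p ^ n) →+ ZMod p, f (D.psi g) = 0 := by
      intro f
      by_contra hne
      have hχ : ∀ x : G, ∀ v : Plane p n, f ((D.chi x : ZMod (p ^ n)) • v) = f v := by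
        intro x v
        rw [Nat.cast_smul_eq_nsmul, map_nsmul, nsmul_eq_mul, chi, pow_cast_one D.r_cast, one_mul]
      let φ : G →* Multiplicative (ZMod p) :=
        MonoidHom.mk' (fun x => Multiplicative.ofAdd (f (D.psi x))) fun x y => by
          rw [D.psi_mul, map_add, hχ, ofAdd_add]
      have hidx : φ.ker.index.Prime := by
        rw [Subgroup.index_ker]
        have hd := Subgroup.card_subgroup_dvd_card φ.range
        rw [Nat.card_congr Multiplicative.toAdd, Nat.card_zmod] at hd
        rcases (Nat.dvd_prime hp.out).mp hd with h1 | h1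
        · exfalso
          have hm : φ g ∈ φ.range := ⟨g, rfl⟩
          rw [Subgroup.card_eq_one.mp h1, Subgroup.mem_bot] at hm
          exact hne (congrArg Multiplicative.toAdd hm)
        · rw [h1]; exact hp.out
      exact hne (congrArg Multiplicative.toAdd (MonoidHom.mem_ker.mp
        (frattini_le_coatom (Cfsg.Agent.Lib.Cores.isCoatom_of_prime_index hidx) hg)))
    let c := (ZMod.castHom (show p ∣ p ^ n from dvd_pow_self p hn) (ZMod p)).toAddMonoidHom
    have hc : ∀ x : ZMod (p ^ n), c x = 0 → ∃ y, x = p ^ 1 • y := by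
      intro x hx
      have h1 : (x.val : ZMod p) = 0 := by
        have h2 := map_natCast (ZMod.castHom (show p ∣ p ^ n from dvd_pow_self p hn) (ZMod p)) x.val
        rw [ZMod.natCast_zmod_val] at h2
        rw [← h2]; exact hx
      obtain ⟨k, hk⟩ := (ZMod.natCast_eq_zero_iff _ _).mp h1
      exact ⟨(k : ZMod (p ^ n)), by rw [← ZMod.natCast_zmod_val x, hk, nsmul_eq_mul, pow_one, Nat.cast_mul]⟩
    obtain ⟨y₁, hy₁⟩ := hc _ (key (c.comp (AddMonoidHom.fst _ _)))
    obtain ⟨y₂, hy₂⟩ := hc _ (key (c.comp (AddMonoidHom.snd _ _)))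
    exact ⟨(y₁, y₂), Prod.ext hy₁ hy₂⟩
  · intro h
    rw [← D.mem_powers_iff (Nat.one_le_iff_ne_zero.mpr hn)] at h
    refine Subgroup.closure_le (K := frattini G) |>.mpr ?_ h
    rintro _ ⟨y, rfl⟩
    rw [pow_one]
    exact Cfsg.Agent.Lib.Cores.pow_mem_frattini hG y

theorem not_mem_frattini_iff (hG : IsPGroup p G) (hn : n ≠ 0) (g : G) :
    g ∉ frattini G ↔ IsMulCommutative ↥(Subgroup.centralizer ({g} : Set G)) := by
  have := neZero_pow p n
  have h1 := card_mul_card_perp (AddSubgroup.zmultiples (D.psi g))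
  have h2 : IsMulCommutative ↥(Subgroup.centralizer ({g} : Set G)) ↔
      Nat.card (perp (AddSubgroup.zmultiples (D.psi g))) ≤ p ^ n := by
    rw [D.isMulCommutative_iff, D.centralizer_singleton, D.img_pre, isotropic_iff_card_le]
  rw [h2, D.mem_frattini_iff hG hn, ← smul_eq_zero_iff_mult (Nat.one_le_iff_ne_zero.mpr hn),
    ← D.index_le_iff g (n - 1) (Nat.sub_le n 1), D.centralizer_index]
  obtain ⟨k, -, hk⟩ := (Nat.dvd_prime_pow hp.out).mp (Dvd.intro _ h1)
  obtain ⟨l, -, hl⟩ := (Nat.dvd_prime_pow hp.out).mp (Dvd.intro_left _ h1)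
  rw [hk, hl, ← pow_add] at h1
  have hkl := Nat.pow_right_injective hp.out.two_le h1
  rw [hk, hl, Nat.pow_le_pow_iff_right hp.out.one_lt, Nat.pow_le_pow_iff_right hp.out.one_lt]
  omega

theorem bicommutant (K : Subgroup G) (hK : IsMulCommutative ↥K) (hZ : Subgroup.center G ≤ K) :
    K = Subgroup.centralizer (K : Set G) ⊓
      Subgroup.centralizer (Subgroup.centralizer (K : Set G) : Set G) := by
  have h1 : Subgroup.centralizer (Subgroup.centralizer (K : Set G) : Set G) = K := by
    conv_lhs => rw [D.centralizer_eq K, D.centralizer_eq, D.img_pre, perp_perp, D.pre_img hZ]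
  rw [h1]
  refine (inf_eq_right.mpr ?_).symm
  rw [D.centralizer_eq]
  exact fun x hx => (D.isMulCommutative_iff K).mp hK ⟨x, hx, rfl⟩

theorem card_mul_card_centralizer (R : Subgroup G) :
    Nat.card R * Nat.card (Subgroup.centralizer (R : Set G)) =
      p ^ (2 * n) * Nat.card (Subgroup.center G) * Nat.card ↥(R ⊓ Subgroup.center G) := by
  rw [D.card_eq R, D.centralizer_eq, D.card_pre, ← card_mul_card_perp (D.img R)]
  ring

theorem maxCentralizerProduct_eq :
    Cfsg.maxCentralizerProduct G = (commutator G).index ^ 2 := by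
  have hval : p ^ (2 * n) * Nat.card (Subgroup.center G) * Nat.card (Subgroup.center G) = (commutator G).index ^ 2 := by
    rw [D.commutator_index, mul_pow, ← pow_mul, mul_comm n 2, pow_two (Nat.card _), mul_assoc]
  have hub : ∀ k ∈ {k : ℕ | ∃ R : Subgroup G, Nat.card ↥R * Nat.card ↥(Subgroup.centralizer (R : Set G)) = k},
      k ≤ (commutator G).index ^ 2 := by
    rintro _ ⟨R, rfl⟩
    rw [← hval, D.card_mul_card_centralizer]
    exact Nat.mul_le_mul_left _ (Subgroup.card_le_of_le inf_le_right)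
  refine le_antisymm (csSup_le ⟨_, ⊥, rfl⟩ hub) (le_csSup ⟨_, hub⟩ ⟨Subgroup.center G, ?_⟩)
  rw [← hval, D.card_mul_card_centralizer, inf_idem]

theorem centralizerLarge_iff (R : Subgroup G) :
    Cfsg.IsCentralizerLarge R ↔ Subgroup.center G ≤ R := by
  rw [Cfsg.IsCentralizerLarge, D.maxCentralizerProduct_eq, D.card_mul_card_centralizer, D.commutator_index,
    mul_pow, ← pow_mul, mul_comm n 2, pow_two (Nat.card (Subgroup.center G)), mul_assoc]
  rw [Nat.mul_right_inj (pow_ne_zero _ hp.out.ne_zero), Nat.mul_right_inj Nat.card_pos.ne']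
  constructor
  · intro h
    rw [← Subgroup.eq_of_le_of_card_ge inf_le_right h.ge]
    exact inf_le_left
  · intro h; rw [inf_eq_right.mpr h]

omit D in
theorem card_center_sub (R : Subgroup G) :
    Nat.card (Subgroup.center R) = Nat.card ↥(R ⊓ Subgroup.centralizer (R : Set G)) := by
  rw [← Subgroup.card_map_of_injective R.subtype_injective (K := Subgroup.center R)]
  congr 2
  ext x
  constructor
  · rintro ⟨y, hy, rfl⟩
    exact Subgroup.mem_inf.mpr ⟨y.2, Subgroup.mem_centralizer_iff.mpr fun h hh =>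
      congrArg Subtype.val (Subgroup.mem_center_iff.mp hy ⟨h, hh⟩)⟩
  · intro hx
    obtain ⟨hxR, hc⟩ := Subgroup.mem_inf.mp hx
    exact ⟨⟨x, hxR⟩, Subgroup.mem_center_iff.mpr fun g => Subtype.ext (Subgroup.mem_centralizer_iff.mp hc g g.2), rfl⟩

theorem central_product (R : Subgroup G) :
    Nat.card R * Nat.card (Subgroup.center R) ≤ (commutator G).index ^ 2 ∧
    (Nat.card R * Nat.card (Subgroup.center R) = (commutator G).index ^ 2 ↔
      (¬ IsMulCommutative ↥R ∨ Maximal (fun K : Subgroup G => IsMulCommutative ↥K) R)) := by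
  have hval : p ^ (2 * n) * Nat.card (Subgroup.center G) * Nat.card (Subgroup.center G) = (commutator G).index ^ 2 := by
    rw [D.commutator_index, mul_pow, ← pow_mul, mul_comm n 2, pow_two (Nat.card _), mul_assoc]
  by_cases hR : IsMulCommutative ↥R
  · have hc : Nat.card (Subgroup.center R) = Nat.card R := by
      rw [Subgroup.center_eq_top_iff.mpr hR, Subgroup.card_top]
    rw [hc, ← pow_two, D.maximal_iff]
    refine ⟨Nat.pow_le_pow_left ((D.abelian_iff R).mp hR) 2, ?_⟩
    simp only [hR, not_true_eq_false, false_or]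
    exact (Nat.pow_left_injective two_ne_zero).eq_iff
  · have hle := D.center_le_of_nonabelian hR
    have hperp : perp (D.img R) ≤ D.img R :=
      (le_perp_or_perp_le _).resolve_left fun h => hR ((D.isMulCommutative_iff R).mpr h)
    have hC : Subgroup.centralizer (R : Set G) ≤ R := by
      intro x hx
      rw [D.centralizer_eq] at hx
      exact (D.psi_mem_img_iff hle).mp (hperp hx)
    rw [card_center_sub, inf_eq_right.mpr hC, D.card_mul_card_centralizer, inf_eq_right.mpr hle, hval]
    exact ⟨le_rfl, by simp [hR]⟩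

theorem maxCentralProduct_eq :
    Cfsg.maxCentralProduct G = (commutator G).index ^ 2 := by
  have hub : ∀ k ∈ {k : ℕ | ∃ R : Subgroup G, Nat.card ↥R * Nat.card ↥(Subgroup.center ↥R) = k},
      k ≤ (commutator G).index ^ 2 := by
    rintro _ ⟨R, rfl⟩; exact (D.central_product R).1
  obtain ⟨K, -, hK⟩ := Finite.exists_le_maximal (α := Subgroup G) (p := fun K => IsMulCommutative ↥K) (a := ⊥)
    inferInstance
  exact le_antisymm (csSup_le ⟨_, ⊥, rfl⟩ hub) (le_csSup ⟨_, hub⟩ ⟨K, (D.central_product K).2.mpr (Or.inr hK)⟩)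

end Data

end Cfsg.Agent.Lib.Metacyclic
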